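import Mathlib.RingTheory.Unramified.LocalRing
import Mathlib.RingTheory.Unramified.Field
import Mathlib.RingTheory.Kaehler.Basic

/-!
# Cyclic differentials, ramified points and inseparable residue fields
-/

set_option autoImplicit false
set_option linter.style.haveILetI false

namespace Groth.Agent.TameSep

open IsLocalRing

universe u

variable (K A B : Type u) [CommRing K] [CommRing A] [CommRing B] [IsLocalRing A] [IsLocalRing B]
  [Algebra K A] [Algebra K B] [Algebra A B] [IsScalarTower K A B] [IsLocalHom (algebraMap A B)]

theorem mem_maximalIdeal_smul_map_eq_zero (b : B) (hb : b ∈ maximalIdeal B) (ω : Ω[B⁄K]) :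
    KaehlerDifferential.map K K B (ResidueField B) (b • ω) = 0 := by
  rw [LinearMap.map_smul, ← algebraMap_smul (ResidueField B) b]
  rw [ResidueField.algebraMap_eq, residue_eq_zero_iff b |>.2 hb, zero_smul]

/-- Either the residue field is differentially trivial over the base or the map of local rings is
unramified. -/
theorem formallyUnramified_of_not {η : Ω[B⁄K]} (hη : ∀ ω : Ω[B⁄K], ∃ c : B, c • η = ω)
    [Algebra.IsSeparable (ResidueField A) (ResidueField B)]
    (hne : ¬ Algebra.FormallyUnramified K (ResidueField B)) :
    Algebra.FormallyUnramified A B := by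
  let w := KaehlerDifferential.map K K B (ResidueField B)
  obtain ⟨a, ha⟩ : ∃ a : A, w (KaehlerDifferential.D K B (algebraMap A B a)) ≠ 0 := by
    by_contra! h
    refine hne ⟨?_⟩
    haveI : Algebra.FormallyUnramified (ResidueField A) (ResidueField B) :=
      Algebra.FormallyUnramified.of_isSeparable _ _
    haveI : Subsingleton Ω[ResidueField B⁄ResidueField A] := inferInstance
    have hs : ∀ a : ResidueField A,
        KaehlerDifferential.D K (ResidueField B) (algebraMap (ResidueField A) (ResidueField B) a) = 0 := by
      intro a
      obtain ⟨a, rfl⟩ := residue_surjective a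
      have := h a
      simp only [w, KaehlerDifferential.map_D] at this
      exact this
    let d : Derivation (ResidueField A) (ResidueField B) Ω[ResidueField B⁄K] :=
      Derivation.mk'
        { toFun := KaehlerDifferential.D K (ResidueField B)
          map_add' := fun x y => map_add _ x y
          map_smul' := fun r x => by
            rw [Algebra.smul_def, Derivation.leibniz, hs, smul_zero, add_zero,
              RingHom.id_apply, algebraMap_smul] }
        fun x y => Derivation.leibniz _ x y
    have hd : ∀ x, KaehlerDifferential.D K (ResidueField B) x = 0 := fun x => by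
      have h1 : d x = d.liftKaehlerDifferential (KaehlerDifferential.D _ _ x) :=
        (d.liftKaehlerDifferential_comp_D x).symm
      rw [Subsingleton.elim (KaehlerDifferential.D (ResidueField A) (ResidueField B) x) 0, map_zero] at h1
      exact h1
    refine subsingleton_of_forall_eq 0 fun ω => ?_
    have : ω ∈ Submodule.span (ResidueField B) (Set.range (KaehlerDifferential.D K (ResidueField B))) := by
      rw [KaehlerDifferential.span_range_derivation]; trivial
    refine Submodule.span_induction (fun y hy => ?_) rfl (fun _ _ _ _ h1 h2 => by rw [h1, h2, add_zero])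
      (fun r _ _ h1 => by rw [h1, smul_zero]) this
    obtain ⟨x, rfl⟩ := hy
    exact hd x
  obtain ⟨c, hc⟩ := hη (KaehlerDifferential.D K B (algebraMap A B a))
  have hcu : IsUnit c := by
    refine notMem_maximalIdeal.1 fun hcm => ha ?_
    rw [← hc]
    exact mem_maximalIdeal_smul_map_eq_zero K B c hcm η
  refine ⟨subsingleton_of_forall_eq 0 fun ω => ?_⟩
  let π := KaehlerDifferential.map K A B B
  have hπ : π η = 0 := by
    have : π (c • η) = 0 := by
      rw [hc, KaehlerDifferential.map_D]
      exact Derivation.map_algebraMap _ a
    rw [map_smul] at this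
    exact (hcu.smul_eq_zero).1 this
  obtain ⟨ω', rfl⟩ := KaehlerDifferential.map_surjective K A B ω
  obtain ⟨c', rfl⟩ := hη ω'
  show π (c' • η) = 0
  rw [map_smul, hπ, smul_zero]

/-- A ramified local map with separable residue extension and cyclic differentials has residue field
differentially trivial over the base. -/
theorem formallyUnramified_of_ramified {η : Ω[B⁄K]} (hη : ∀ ω : Ω[B⁄K], ∃ c : B, c • η = ω)
    [Algebra.IsSeparable (ResidueField A) (ResidueField B)] [Algebra.EssFiniteType A B]
    (hr : (maximalIdeal A).map (algebraMap A B) ≠ maximalIdeal B) :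
    Algebra.FormallyUnramified K (ResidueField B) := by
  by_contra hne
  haveI := formallyUnramified_of_not K A B hη hne
  exact hr Algebra.FormallyUnramified.map_maximalIdeal

end Groth.Agent.TameSep

namespace Groth.Agent.TameSep

open IsLocalRing

universe v

/-- With separable residue field, a generator of the maximal ideal differentiates to a basis. -/
theorem bijective_smul_D {K B : Type v} [CommRing K] [CommRing B] [IsLocalRing B] [Algebra K B]
    (b : Module.Basis Unit B Ω[B⁄K]) [Algebra.FormallyUnramified K (ResidueField B)]
    {s : B} (hs : maximalIdeal B = Ideal.span {s}) :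
    Function.Bijective (fun a : B => a • KaehlerDifferential.D K B s) := by
  let η := b ()
  let c := b.repr (KaehlerDifferential.D K B s) ()
  have hrepr : ∀ ω : Ω[B⁄K], b.repr ω () • η = ω := fun ω => by
    conv_rhs => rw [← b.sum_repr ω]
    simp [η]
  by_cases hc : IsUnit c
  · have hD : KaehlerDifferential.D K B s = c • η := (hrepr _).symm
    refine ⟨fun a a' h => ?_, fun ω => ⟨b.repr ω () * hc.unit⁻¹, ?_⟩⟩
    · have h' := congrArg (fun ω => b.repr ω ()) h
      simp only [hD, smul_smul, map_smul, η, b.repr_self] at h'
      exact (hc.mul_left_inj).1 (by simpa using h')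
    · show _ • KaehlerDifferential.D K B s = ω
      rw [hD, smul_smul, mul_assoc, IsUnit.val_inv_mul, mul_one, hrepr]
  exfalso
  have hcm : c ∈ maximalIdeal B := hc
  let J : Submodule B Ω[B⁄K] := maximalIdeal B • ⊤
  have hDs : KaehlerDifferential.D K B s ∈ J := by
    rw [← hrepr (KaehlerDifferential.D K B s)]
    exact Submodule.smul_mem_smul hcm trivial
  have hDm : ∀ z ∈ maximalIdeal B, KaehlerDifferential.D K B z ∈ J := fun z hz => by
    obtain ⟨r, rfl⟩ := Ideal.mem_span_singleton'.1 (hs ▸ hz)
    rw [Derivation.leibniz]
    exact add_mem (J.smul_mem r hDs) (Submodule.smul_mem_smul (hs ▸ Ideal.mem_span_singleton_self s) trivial)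
  let M := Ω[B⁄K] ⧸ J
  haveI hM : Module.IsTorsionBySet B M (maximalIdeal B) := Module.isTorsionBySet_quotient_ideal_smul _ _
  letI : Module (ResidueField B) M := hM.module
  haveI : IsScalarTower K (ResidueField B) M := ⟨fun r x m => by
    obtain ⟨x, rfl⟩ := residue_surjective x
    rw [show r • residue B x = residue B (r • x) from rfl]
    show (r • x) • m = r • (x • m)
    exact smul_assoc r x m⟩
  let g : ResidueField B → M := fun x =>
    Quotient.liftOn' x (fun z => J.mkQ (KaehlerDifferential.D K B z)) fun z z' h => by
      rw [Submodule.quotientRel_def] at h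
      refine (Submodule.Quotient.eq J).2 ?_
      rw [← map_sub]
      exact hDm _ h
  have hg : ∀ z, g (residue B z) = J.mkQ (KaehlerDifferential.D K B z) := fun _ => rfl
  let d : Derivation K (ResidueField B) M := Derivation.mk'
    { toFun := g
      map_add' := fun x y => by
        obtain ⟨x, rfl⟩ := residue_surjective x
        obtain ⟨y, rfl⟩ := residue_surjective y
        rw [← map_add, hg, hg, hg, map_add, map_add]
      map_smul' := fun r x => by
        obtain ⟨x, rfl⟩ := residue_surjective x
        rw [show r • residue B x = residue B (r • x) from rfl, hg, hg, Derivation.map_smul, RingHom.id_apply]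
        exact LinearMap.map_smul_of_tower J.mkQ r _ }
    fun x y => by
      obtain ⟨x, rfl⟩ := residue_surjective x
      obtain ⟨y, rfl⟩ := residue_surjective y
      show g (residue B x * residue B y) = residue B x • g (residue B y) + residue B y • g (residue B x)
      rw [← map_mul, hg, hg, hg, Derivation.leibniz, map_add, map_smul, map_smul]
      rfl
  have hd : ∀ x, d x = 0 := fun x => by
    rw [← d.liftKaehlerDifferential_comp_D x, Subsingleton.elim (KaehlerDifferential.D K (ResidueField B) x) 0, map_zero]
  have htop : (⊤ : Submodule B Ω[B⁄K]) ≤ J := by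
    rw [← KaehlerDifferential.span_range_derivation, Submodule.span_le]
    rintro _ ⟨z, rfl⟩
    refine (Submodule.Quotient.mk_eq_zero J).1 ?_
    rw [← Submodule.mkQ_apply, ← hg]
    exact hd (residue B z)
  haveI : Module.Finite B Ω[B⁄K] := Module.Finite.of_basis b
  have hbot : (⊤ : Submodule B Ω[B⁄K]) = ⊥ :=
    Submodule.eq_bot_of_le_smul_of_le_jacobson_bot _ _ Module.Finite.fg_top htop (maximalIdeal_le_jacobson _)
  exact b.ne_zero () ((Submodule.mem_bot B).1 (hbot ▸ Submodule.mem_top))

end Groth.Agent.TameSep
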